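import Mathlib
import Groth.Agent.GrassPlucker.Final
import Groth.Agent.PnSpec.Basic
import Groth.Agent.S3557
import Groth.Agent.S10829

/-! The Grassmannian of rank one quotients of a finite free vector space is a projective space. -/

set_option autoImplicit false

universe u

noncomputable section

open CategoryTheory CategoryTheory.Limits AlgebraicGeometry

namespace Groth.Agent.BrSevSplit

open GrassRep GrassClosed GrassPlucker

open TopologicalSpace in
theorem isIntegral_projSpace {k : Type u} [Field k] {n : ℕ} : IsIntegral (CohB1.ProjSpace n k) := by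
  refine (Groth.Agent.S3557.result (CohB1.polyGrading n k) fun f _ h => h.eq_zero).mpr
    ⟨⟨MvPolynomial.X 0, HomogeneousIdeal.mem_irrelevant_of_mem _ one_pos (MvPolynomial.isHomogeneous_X k 0),
      MvPolynomial.X_ne_zero 0⟩, fun f _ g _ h => mul_eq_zero.mp h⟩

open TopologicalSpace in
theorem dim_le_of_closed_ne_univ {k : Type u} [Field k] {n : ℕ} {Z : Set (CohB1.ProjSpace n k)} (hZ : IsClosed Z) (hne : Z ≠ Set.univ)
    (e : ℕ) (he : n ≤ e + 1) : topologicalKrullDim Z ≤ (e : WithBot ℕ∞) := by
  haveI := isIntegral_projSpace (k := k) (n := n)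
  haveI : QuasiSober Z := hZ.isClosedEmbedding_subtypeVal.quasiSober
  refine Groth.Agent.Unibranch.topologicalKrullDim_le_natCast fun l c hc => ?_
  have hη : genericPoint (CohB1.ProjSpace n k) ∉ Z := fun h =>
    hne (Set.eq_univ_of_forall fun x => (genericPoint_specializes x).mem_closed hZ h)
  have h1 := Groth.Agent.Unibranch.natCast_le_topologicalKrullDim
    (Fin.cons (genericPoint (CohB1.ProjSpace n k)) fun i => (c i).1) fun i => by
      refine Fin.cases ?_ (fun j => ?_) i
      · refine ⟨genericPoint_specializes _, fun h => hη ?_⟩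
        simp only [Fin.castSucc_zero, Fin.cons_zero, Fin.cons_succ] at h
        exact h ▸ (c 0).2
      · simp only [← Fin.succ_castSucc, Fin.cons_succ]
        exact ⟨(subtype_specializes_iff _ _).mp (hc j).1, fun h => (hc j).2 (Subtype.ext h)⟩
  rw [Groth.Agent.S10829.result k n] at h1
  exact Nat.succ_le_succ_iff.mp ((CartierDim.natCast_le_withBot.mp h1).trans he)

theorem exists_grassOne_iso (K : Type u) [Field K] (m : ℕ) :
    ∃ e : (grassSch K (m + 1) 1).left ≅ CohB1.ProjSpace m K,
      e.hom ≫ CohB1.ProjSpace.toSpec m K = (grassSch K (m + 1) 1).hom := by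
  classical
  obtain ⟨F⟩ : Nonempty (Frame (m + 1) 1 m) := by
    have h := nonempty_frame (n := m + 1) (k := 1) (by omega)
    rwa [Nat.choose_one_right, Nat.add_sub_cancel] at h
  obtain ⟨c, hc, hcb⟩ := exists_plucker (R := K) F
  obtain ⟨e, he⟩ := PnSpec.exists_iso m K
  haveI := hc
  let j : (grassSch K (m + 1) 1).left ⟶ CohB1.ProjSpace m K := c ≫ e.inv
  haveI : IsClosedImmersion j := inferInstanceAs (IsClosedImmersion (c ≫ e.inv))
  have hj : j ≫ CohB1.ProjSpace.toSpec m K = (grassSch K (m + 1) 1).hom := by
    rw [← he]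
    simp only [j, Category.assoc, Iso.inv_hom_id_assoc]
    exact hcb
  haveI := isIntegral_projSpace (k := K) (n := m)
  have hinj : Function.Injective (fun _ : Fin 1 => (0 : Fin (m + 1))) := fun a b _ => Subsingleton.elim a b
  obtain ⟨E⟩ := nonempty_chartEquiv_fin (R := K) hinj
  let s : (grassData K (m + 1) 1).J := ⟨⟨fun _ => 0, hinj⟩⟩
  let i : (chartSch K s.down.1).left ⟶ CohB1.ProjSpace m K := (chartIncl K s).left ≫ j
  have hind : Topology.IsInducing i.base :=
    j.isClosedEmbedding.isInducing.comp (chartIncl K s).left.isOpenEmbedding.isInducing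
  have hdim : topologicalKrullDim (chartSch K s.down.1).left = (m : WithBot ℕ∞) := by
    refine (PrimeSpectrum.topologicalKrullDim_eq_ringKrullDim (R := chartAlg K s.down.1)).trans ?_
    rw [ringKrullDim_eq_of_ringEquiv E.toRingEquiv, MvPolynomial.ringKrullDim_of_isNoetherianRing,
      ringKrullDim_eq_zero_of_field, zero_add, Nat.card_eq_fintype_card, Fintype.card_ulift, Fintype.card_fin]
    simp
  have hrange : Set.range j.base = Set.univ := by
    by_contra hne
    have hZ : IsClosed (Set.range j.base) := j.isClosedEmbedding.isClosed_range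
    have hle : topologicalKrullDim (chartSch K s.down.1).left ≤ topologicalKrullDim (Set.range j.base) :=
      (hind.codRestrict (s := Set.range j.base) fun x =>
        ⟨(chartIncl K s).left.base x, rfl⟩).topologicalKrullDim_le
    rw [hdim] at hle
    rcases Nat.eq_zero_or_pos m with rfl | hm
    · haveI : Nontrivial (chartAlg K s.down.1) := E.toRingEquiv.toEquiv.nontrivial
      obtain ⟨x⟩ : Nonempty (PrimeSpectrum (chartAlg K s.down.1)) := inferInstance
      have hη : genericPoint (CohB1.ProjSpace 0 K) ∉ Set.range j.base := fun h =>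
        hne (Set.eq_univ_of_forall fun y => (genericPoint_specializes y).mem_closed hZ h)
      have h1 := Groth.Agent.Unibranch.natCast_le_topologicalKrullDim
        (![genericPoint (CohB1.ProjSpace 0 K), i.base x] : Fin 2 → _) fun l => by
          fin_cases l
          exact ⟨genericPoint_specializes _, fun h => hη ⟨_, h.symm⟩⟩
      rw [Groth.Agent.S10829.result K 0] at h1
      exact absurd (CartierDim.natCast_le_withBot.mp h1) (by norm_num)
    · have h2 := hle.trans (dim_le_of_closed_ne_univ hZ hne (m - 1) (by omega))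
      have h3 : m ≤ m - 1 := by exact_mod_cast h2
      omega
  haveI : Surjective j := ⟨Set.range_eq_univ.1 hrange⟩
  haveI : IsIso j := isIso_of_isClosedImmersion_of_surjective j
  exact ⟨asIso j, hj⟩

end Groth.Agent.BrSevSplit
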