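import Mathlib
import Groth.Agent.OortTate.DualRank

/-! Left ideals of matrix rings with projective quotient, and direct summands of `R^n`. -/

set_option autoImplicit false

universe u

noncomputable section

open Module Matrix

namespace Groth.Agent.BrSevSplit

variable {R : Type u} [CommRing R] {n : ℕ}

/-- The orthogonal of a submodule of `R^n`. -/
def ann (P : Submodule R (Fin n → R)) : Submodule R (Fin n → R) where
  carrier := {u | ∀ p ∈ P, p ⬝ᵥ u = 0}
  add_mem' {u v} hu hv p hp := by rw [dotProduct_add, hu p hp, hv p hp, add_zero]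
  zero_mem' p _ := dotProduct_zero p
  smul_mem' c u hu p hp := by rw [dotProduct_smul, hu p hp, smul_zero]

theorem mem_ann {P : Submodule R (Fin n → R)} {u : Fin n → R} : u ∈ ann P ↔ ∀ p ∈ P, p ⬝ᵥ u = 0 := Iff.rfl

/-- The orthogonal of a direct summand. -/
theorem ann_props (P : Submodule R (Fin n → R)) [Module.Finite R ((Fin n → R) ⧸ P)]
    [Module.Projective R ((Fin n → R) ⧸ P)] :
    Module.Finite R ((Fin n → R) ⧸ ann P) ∧ Module.Projective R ((Fin n → R) ⧸ ann P) ∧
      (∀ x, rankAtStalk (R := R) ((Fin n → R) ⧸ ann P) x + rankAtStalk (R := R) ((Fin n → R) ⧸ P) x = n) ∧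
      ann (ann P) = P := by
  classical
  obtain ⟨s, hs⟩ := Module.projective_lifting_property P.mkQ LinearMap.id P.mkQ_surjective
  have hms : ∀ q, P.mkQ (s q) = q := fun q => LinearMap.congr_fun hs q
  let π : (Fin n → R) →ₗ[R] P := (LinearMap.id - s.comp P.mkQ).codRestrict P fun z => by
    rw [← Submodule.Quotient.mk_eq_zero, ← Submodule.mkQ_apply, LinearMap.sub_apply, map_sub]
    exact sub_eq_zero.2 (hms _).symm
  have hπ : π.comp P.subtype = LinearMap.id := by
    ext p : 1
    refine Subtype.ext ?_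
    show (p : Fin n → R) - s (P.mkQ p) = p
    rw [show P.mkQ (p : Fin n → R) = 0 from (Submodule.Quotient.mk_eq_zero _).2 p.2, map_zero, sub_zero]
  haveI : Module.Projective R P := Module.Projective.of_split P.subtype π hπ
  haveI : Module.Finite R P := Module.Finite.of_surjective π fun p => ⟨p, LinearMap.congr_fun hπ p⟩
  let Φ : (Fin n → R) →ₗ[R] Module.Dual R P :=
    { toFun := fun u => { toFun := fun p => (p : Fin n → R) ⬝ᵥ u
                          map_add' := fun a b => by simp [add_dotProduct]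
                          map_smul' := fun c a => by simp [smul_dotProduct] }
      map_add' := fun u v => LinearMap.ext fun p => dotProduct_add (p : Fin n → R) u v
      map_smul' := fun c u => LinearMap.ext fun p => dotProduct_smul c (p : Fin n → R) u }
  have hsurj : Function.Surjective Φ := fun ψ => ⟨fun i => ψ (π (Pi.single i 1)), LinearMap.ext fun p => by
    show ∑ i, (p : Fin n → R) i * ψ (π (Pi.single i 1)) = ψ p
    have e : p = ∑ i, (p : Fin n → R) i • π (Pi.single i 1) := by
      simp only [← map_smul, ← map_sum]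
      rw [← pi_eq_sum_univ' (p : Fin n → R)]
      exact (LinearMap.congr_fun hπ p).symm
    conv_rhs => rw [e]
    simp only [map_sum, map_smul, smul_eq_mul]⟩
  have hker : LinearMap.ker Φ = ann P := Submodule.ext fun u =>
    ⟨fun h p hp => LinearMap.congr_fun (LinearMap.mem_ker.1 h) ⟨p, hp⟩,
      fun h => LinearMap.mem_ker.2 (LinearMap.ext fun p => h p p.2)⟩
  let e : ((Fin n → R) ⧸ ann P) ≃ₗ[R] Module.Dual R P :=
    (Submodule.quotEquivOfEq _ _ hker.symm).trans (Φ.quotKerEquivOfSurjective hsurj)
  refine ⟨Module.Finite.equiv e.symm, Module.Projective.of_equiv e.symm, fun x => ?_, le_antisymm (fun v hv => ?_)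
    fun v hv u hu => by rw [dotProduct_comm]; exact hu v hv⟩
  · haveI : Nontrivial R := x.nontrivial
    rw [rankAtStalk_eq_of_equiv e, OortTate.rankAtStalk_dual]
    let eP : (Fin n → R) ≃ₗ[R] P × ((Fin n → R) ⧸ P) :=
      { π.prod P.mkQ with
        invFun := fun z => (z.1 : Fin n → R) + s z.2
        left_inv := fun z => sub_add_cancel z _
        right_inv := fun z => by
          have h0 : P.mkQ (z.1 : Fin n → R) = 0 := (Submodule.Quotient.mk_eq_zero _).2 z.1.2
          refine Prod.ext (Subtype.ext ?_) ?_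
          · show (z.1 : Fin n → R) + s z.2 - s (P.mkQ ((z.1 : Fin n → R) + s z.2)) = z.1
            rw [map_add P.mkQ, h0, hms, zero_add, add_sub_cancel_right]
          · show P.mkQ ((z.1 : Fin n → R) + s z.2) = z.2
            rw [map_add, h0, hms, zero_add] }
    have h1 := congrFun (rankAtStalk_eq_of_equiv eP) x
    rw [rankAtStalk_prod, Pi.add_apply, rankAtStalk_eq_finrank_of_free, Module.finrank_pi, Fintype.card_fin] at h1
    exact h1.symm.trans rfl
  · rw [← Submodule.Quotient.mk_eq_zero, ← Submodule.mkQ_apply, ← Module.forall_dual_apply_eq_zero_iff R]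
    intro φ
    let u : Fin n → R := fun i => φ (P.mkQ (Pi.single i 1))
    have key : ∀ p : Fin n → R, p ⬝ᵥ u = φ (P.mkQ p) := fun p => by
      conv_rhs => rw [pi_eq_sum_univ' p]
      simp only [dotProduct, map_sum, map_smul, smul_eq_mul, u]
    have hu : u ∈ ann P := fun p hp => by
      rw [key, show P.mkQ p = 0 from (Submodule.Quotient.mk_eq_zero _).2 hp, map_zero]
    rw [← key, dotProduct_comm]
    exact hv u hu

/-- Matrices with all rows in `P`. -/
def matSub (P : Submodule R (Fin n → R)) : Submodule R (Matrix (Fin n) (Fin n) R) where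
  carrier := {M | ∀ i, M i ∈ P}
  add_mem' {a b} ha hb i := P.add_mem (ha i) (hb i)
  zero_mem' _ := P.zero_mem
  smul_mem' c a ha i := P.smul_mem c (ha i)

theorem mem_matSub {P : Submodule R (Fin n → R)} {M : Matrix (Fin n) (Fin n) R} :
    M ∈ matSub P ↔ ∀ i, M i ∈ P := Iff.rfl

theorem mul_mem_matSub {P : Submodule R (Fin n → R)} (a : Matrix (Fin n) (Fin n) R) {M : Matrix (Fin n) (Fin n) R}
    (h : M ∈ matSub P) : a * M ∈ matSub P := fun i => by
  rw [show (a * M) i = ∑ l, a i l • M l by ext j; simp [Matrix.mul_apply]]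
  exact P.sum_mem fun l _ => P.smul_mem _ (h l)

/-- A row as a matrix. -/
def rowEmb (i₀ : Fin n) : (Fin n → R) →ₗ[R] Matrix (Fin n) (Fin n) R where
  toFun v := Matrix.vecMulVec (Pi.single i₀ 1) v
  map_add' u v := Matrix.vecMulVec_add _ _ _
  map_smul' c v := Matrix.vecMulVec_smul _ _ _

theorem rowEmb_apply (i₀ : Fin n) (v : Fin n → R) (i : Fin n) :
    rowEmb i₀ v i = if i = i₀ then v else 0 := by
  ext j
  simp only [rowEmb, LinearMap.coe_mk, AddHom.coe_mk, Matrix.vecMulVec_apply, Pi.single_apply]
  split <;> simp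

/-- The common row space of a left ideal. -/
def rowSp (i₀ : Fin n) (N : Submodule R (Matrix (Fin n) (Fin n) R)) : Submodule R (Fin n → R) :=
  N.comap (rowEmb i₀)

theorem rowSp_matSub (i₀ : Fin n) (P : Submodule R (Fin n → R)) : rowSp i₀ (matSub P) = P := by
  ext v
  simp only [rowSp, Submodule.mem_comap, mem_matSub, rowEmb_apply]
  exact ⟨fun h => by simpa using h i₀, fun h i => by split <;> simp [h]⟩

theorem matSub_rowSp (i₀ : Fin n) (N : Submodule R (Matrix (Fin n) (Fin n) R))
    (hN : ∀ a x, x ∈ N → a * x ∈ N) : matSub (rowSp i₀ N) = N := by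
  have key : ∀ (M : Matrix (Fin n) (Fin n) R) (i : Fin n), rowEmb i₀ (M i) = Matrix.single i₀ i 1 * M := fun M i => by
    ext a b
    rw [rowEmb_apply]
    by_cases h : a = i₀
    · subst h; simp
    · simp [h, Matrix.single_mul_apply_of_ne]
  ext M
  simp only [mem_matSub, rowSp, Submodule.mem_comap, key]
  refine ⟨fun h => ?_, fun h i => hN _ _ h⟩
  have e : M = ∑ i, Matrix.single i i₀ 1 * (Matrix.single i₀ i 1 * M) := by
    simp only [← Matrix.mul_assoc, Matrix.single_mul_single_same, mul_one, ← Finset.sum_mul]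
    rw [show (∑ i, Matrix.single i i (1 : R) : Matrix (Fin n) (Fin n) R) = 1 by
      ext a b
      rw [Matrix.sum_apply, Finset.sum_eq_single a (fun x _ hx => Matrix.single_apply_of_ne _ _ _ _ _ (by simp [hx]))
        (fun h' => absurd (Finset.mem_univ a) h')]
      simp [Matrix.single_apply, Matrix.one_apply], one_mul]
  rw [e]
  exact N.sum_mem fun i _ => hN _ _ (h i)

/-- The quotient by `matSub P`. -/
def quotMatEquiv (P : Submodule R (Fin n → R)) :
    (Matrix (Fin n) (Fin n) R ⧸ matSub P) ≃ₗ[R] (Fin n → (Fin n → R) ⧸ P) :=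
  let q : Matrix (Fin n) (Fin n) R →ₗ[R] (Fin n → (Fin n → R) ⧸ P) :=
    { toFun := fun M i => P.mkQ (M i)
      map_add' := fun a b => funext fun i => map_add P.mkQ (a i) (b i)
      map_smul' := fun c a => funext fun i => map_smul P.mkQ c (a i) }
  (Submodule.quotEquivOfEq _ (LinearMap.ker q) (Submodule.ext fun M => by
    simp [q, mem_matSub, funext_iff, Submodule.Quotient.mk_eq_zero])).trans
    (q.quotKerEquivOfSurjective fun z =>
      ⟨Matrix.of fun i => (P.mkQ_surjective (z i)).choose, funext fun i => (P.mkQ_surjective (z i)).choose_spec⟩)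

/-- The quotient by `P` is a finite projective module as soon as the quotient by `matSub P` is. -/
theorem quot_props (P : Submodule R (Fin n → R)) (i₀ : Fin n)
    [Module.Finite R (Matrix (Fin n) (Fin n) R ⧸ matSub P)]
    [Module.Projective R (Matrix (Fin n) (Fin n) R ⧸ matSub P)] :
    Module.Finite R ((Fin n → R) ⧸ P) ∧ Module.Projective R ((Fin n → R) ⧸ P) := by
  let s : ((Fin n → R) ⧸ P) →ₗ[R] Matrix (Fin n) (Fin n) R ⧸ matSub P :=
    (quotMatEquiv P).symm.toLinearMap.comp (LinearMap.single R (fun _ => (Fin n → R) ⧸ P) i₀)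
  let r : (Matrix (Fin n) (Fin n) R ⧸ matSub P) →ₗ[R] (Fin n → R) ⧸ P :=
    (LinearMap.proj i₀).comp (quotMatEquiv P).toLinearMap
  have h : r.comp s = LinearMap.id := LinearMap.ext fun z => by simp [r, s]
  exact ⟨Module.Finite.of_surjective r fun z => ⟨s z, LinearMap.congr_fun h z⟩, Module.Projective.of_split s r h⟩

theorem mat_props (P : Submodule R (Fin n → R)) [Module.Finite R ((Fin n → R) ⧸ P)]
    [Module.Projective R ((Fin n → R) ⧸ P)] :
    Module.Finite R (Matrix (Fin n) (Fin n) R ⧸ matSub P) ∧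
      Module.Projective R (Matrix (Fin n) (Fin n) R ⧸ matSub P) ∧
      ∀ x, rankAtStalk (R := R) (Matrix (Fin n) (Fin n) R ⧸ matSub P) x =
        n * rankAtStalk (R := R) ((Fin n → R) ⧸ P) x := by
  haveI : Module.Projective R (Fin n → (Fin n → R) ⧸ P) :=
    Module.Projective.of_equiv (DFinsupp.linearEquivFunOnFintype (R := R) (M := fun _ : Fin n => (Fin n → R) ⧸ P))
  refine ⟨Module.Finite.equiv (quotMatEquiv P).symm, Module.Projective.of_equiv (quotMatEquiv P).symm, fun x => ?_⟩
  rw [rankAtStalk_eq_of_equiv (quotMatEquiv P), rankAtStalk_pi, finsum_eq_sum_of_fintype]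
  simp

end Groth.Agent.BrSevSplit
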