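import Mathlib
import Groth.Agent.BrSevSplit.Morita
import Groth.Agent.BrSevSplit.GrassOne
import Groth.Agent.LinkedGrass.DirectSum
import Groth.Agent.S0201
import Groth.Prelude.Def_BrSev2

/-! The Severi–Brauer scheme of a split algebra is a projective space. -/

set_option autoImplicit false
set_option maxSynthPendingDepth 3

universe u

noncomputable section

open CategoryTheory CategoryTheory.Limits AlgebraicGeometry
open scoped TensorProduct
open Module.Grassmannian

namespace Groth.Agent.BrSevSplit

open GrassRep GrassClosed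

/-- Quotients along a linear equivalence. -/
def quotComapEquiv {R M M' : Type u} [CommRing R] [AddCommGroup M] [Module R M] [AddCommGroup M'] [Module R M']
    (f : M ≃ₗ[R] M') (Q : Submodule R M') : (M ⧸ Q.comap f.toLinearMap) ≃ₗ[R] M' ⧸ Q :=
  Submodule.Quotient.equiv (Q.comap f.toLinearMap) Q f (Submodule.map_comap_eq_of_surjective f.surjective Q)

variable {k : Type u} [Field k] {A : Type u} [Ring A] [Algebra k A] {K : Type u} [Field K] [Algebra k K] {n : ℕ}
  (e₀ : K ⊗[k] A ≃ₐ[K] Matrix (Fin n) (Fin n) K)

section ring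

variable (R : Type u) [CommRing R] [Algebra k R] [Algebra K R] [IsScalarTower k K R]

/-- The representation over `R`. -/
def gR : A →ₐ[k] Matrix (Fin n) (Fin n) R :=
  (((Algebra.ofId K R).mapMatrix : Matrix (Fin n) (Fin n) K →ₐ[K] Matrix (Fin n) (Fin n) R).restrictScalars k).comp
    ((e₀.toAlgHom.restrictScalars k).comp Algebra.TensorProduct.includeRight)

/-- The splitting over `R`. -/
def rho : R ⊗[k] A →ₐ[R] Matrix (Fin n) (Fin n) R :=
  Algebra.TensorProduct.lift (Algebra.ofId R _) (gR e₀ R) fun r a => Algebra.commutes r _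

theorem rho_tmul (r : R) (a : A) :
    rho e₀ R (r ⊗ₜ[k] a) = r • (e₀ ((1 : K) ⊗ₜ[k] a)).map (algebraMap K R) := by
  rw [rho, Algebra.TensorProduct.lift_tmul, Algebra.smul_def]
  rfl

theorem rho_base (z : K ⊗[k] A) :
    rho e₀ R (Algebra.TensorProduct.map ((Algebra.ofId K R).restrictScalars k) (AlgHom.id k A) z) =
      (e₀ z).map (algebraMap K R) := by
  induction z using TensorProduct.induction_on with
  | zero => simp
  | tmul c a =>
    rw [Algebra.TensorProduct.map_tmul, rho_tmul]
    have h : e₀ (c ⊗ₜ[k] a) = c • e₀ ((1 : K) ⊗ₜ[k] a) := by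
      rw [← map_smul e₀, TensorProduct.smul_tmul', smul_eq_mul, mul_one]
    rw [h]
    ext i j
    simp [Matrix.map_apply]
  | add x y hx hy => simp only [map_add, hx, hy, Matrix.map_add _ (map_add (algebraMap K R))]

theorem rho_surjective : Function.Surjective (rho e₀ R) := by
  classical
  intro M
  have hmem : M ∈ (rho e₀ R).range := by
    rw [Matrix.matrix_eq_sum_single M]
    refine Subalgebra.sum_mem _ fun i _ => Subalgebra.sum_mem _ fun j _ => ?_
    have h1 : (Matrix.single i j (1 : R)) ∈ (rho e₀ R).range := by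
      refine ⟨Algebra.TensorProduct.map ((Algebra.ofId K R).restrictScalars k) (AlgHom.id k A)
        (e₀.symm (Matrix.single i j (1 : K))), ?_⟩
      refine (rho_base e₀ R _).trans ?_
      rw [AlgEquiv.apply_symm_apply]
      ext a b
      simp only [Matrix.map_apply, Matrix.single_apply]
      split <;> simp
    have h2 := Subalgebra.smul_mem _ h1 (M i j)
    rwa [Matrix.smul_single, smul_eq_mul, mul_one] at h2
  exact hmem

theorem rho_bijective [Module.Finite k A] (hA : Module.finrank k A = n * n) : Function.Bijective (rho e₀ R) := by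
  classical
  let b₁ := ((Module.finBasis k A).baseChange R).reindex ((finCongr hA).trans finProdFinEquiv.symm)
  let b₂ := Matrix.stdBasis R (Fin n) (Fin n)
  let L : Matrix (Fin n) (Fin n) R ≃ₗ[R] R ⊗[k] A := b₂.equiv b₁ (Equiv.refl _)
  have h : Function.Bijective (L.toLinearMap.comp (rho e₀ R).toLinearMap) :=
    OrzechProperty.bijective_of_surjective_endomorphism _ (L.surjective.comp (rho_surjective e₀ R))
  exact ⟨fun x y hxy => h.1 (congrArg L hxy), rho_surjective e₀ R⟩

/-- The splitting over `R` as an isomorphism. -/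
def rhoE [Module.Finite k A] (hA : Module.finrank k A = n * n) : R ⊗[k] A ≃ₐ[R] Matrix (Fin n) (Fin n) R :=
  AlgEquiv.ofBijective (rho e₀ R) (rho_bijective e₀ R hA)

variable (n) in
/-- `R ⊗ K^n = R^n`. -/
def piE : R ⊗[K] (Fin n → K) ≃ₗ[R] (Fin n → R) := TensorProduct.piScalarRight K R R (Fin n)

/-- The left ideal attached to a rank one quotient. -/
def toSB [Module.Finite k A] (hA : Module.finrank k A = n * n) (U : Module.Grassmannian R (R ⊗[K] (Fin n → K)) 1) :
    BrSev.SBSet k A (n * n - n) R :=
  haveI hq := (Submodule.Quotient.equiv U.toSubmodule (U.toSubmodule.map (piE n R).toLinearMap) (piE n R) rfl)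
  haveI : Module.Finite R ((Fin n → R) ⧸ U.toSubmodule.map (piE n R).toLinearMap) := Module.Finite.equiv hq
  haveI : Module.Projective R ((Fin n → R) ⧸ U.toSubmodule.map (piE n R).toLinearMap) := Module.Projective.of_equiv hq
  haveI h1 := ann_props (U.toSubmodule.map (piE n R).toLinearMap)
  haveI : Module.Finite R _ := h1.1
  haveI : Module.Projective R _ := h1.2.1
  haveI h2 := mat_props (ann (U.toSubmodule.map (piE n R).toLinearMap))
  ⟨{ toSubmodule := (matSub (ann (U.toSubmodule.map (piE n R).toLinearMap))).comap (rhoE e₀ R hA).toLinearEquiv.toLinearMap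
     finite_quotient := haveI := h2.1; Module.Finite.equiv (quotComapEquiv (rhoE e₀ R hA).toLinearEquiv _).symm
     projective_quotient := haveI := h2.2.1; Module.Projective.of_equiv (quotComapEquiv (rhoE e₀ R hA).toLinearEquiv _).symm
     rankAtStalk_eq := fun x => by
       haveI := h2.1
       haveI := h2.2.1
       rw [Module.rankAtStalk_eq_of_equiv (quotComapEquiv (rhoE e₀ R hA).toLinearEquiv _), h2.2.2]
       have e1 : Module.rankAtStalk (R := R) ((Fin n → R) ⧸ U.toSubmodule.map (piE n R).toLinearMap) x = 1 := by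
         rw [← Module.rankAtStalk_eq_of_equiv hq]
         exact U.rankAtStalk_eq x
       have e2 := h1.2.2.1 x
       rw [show Module.rankAtStalk (R := R) ((Fin n → R) ⧸ ann (U.toSubmodule.map (piE n R).toLinearMap)) x = n - 1 by omega,
         Nat.mul_sub, mul_one] },
    fun a x hx => by
      rw [Submodule.mem_comap] at hx ⊢
      show rhoE e₀ R hA (a * x) ∈ _
      rw [map_mul]
      exact mul_mem_matSub _ hx⟩

theorem toSB_toSubmodule [Module.Finite k A] (hA : Module.finrank k A = n * n)
    (U : Module.Grassmannian R (R ⊗[K] (Fin n → K)) 1) :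
    (toSB e₀ R hA U).1.toSubmodule =
      (matSub (ann (U.toSubmodule.map (piE n R).toLinearMap))).comap (rhoE e₀ R hA).toLinearEquiv.toLinearMap := rfl

theorem toSB_bijective [Module.Finite k A] (hA : Module.finrank k A = n * n) (hn : 0 < n) :
    Function.Bijective (toSB e₀ R hA) := by
  let i₀ : Fin n := ⟨0, hn⟩
  constructor
  · intro U U' h
    have h1 := congrArg (fun z => Subtype.val z |>.toSubmodule) h
    simp only [toSB_toSubmodule] at h1
    have h2 := congrArg (rowSp i₀) (Submodule.comap_injective_of_surjective (rhoE e₀ R hA).toLinearEquiv.surjective h1)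
    rw [rowSp_matSub, rowSp_matSub] at h2
    have key : ∀ V : Module.Grassmannian R (R ⊗[K] (Fin n → K)) 1,
        ann (ann (V.toSubmodule.map (piE n R).toLinearMap)) = V.toSubmodule.map (piE n R).toLinearMap := fun V => by
      have hq := (Submodule.Quotient.equiv V.toSubmodule (V.toSubmodule.map (piE n R).toLinearMap) (piE n R) rfl)
      haveI : Module.Finite R ((Fin n → R) ⧸ V.toSubmodule.map (piE n R).toLinearMap) := Module.Finite.equiv hq
      haveI : Module.Projective R ((Fin n → R) ⧸ V.toSubmodule.map (piE n R).toLinearMap) := Module.Projective.of_equiv hq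
      exact (ann_props _).2.2.2
    have h3 := congrArg ann h2
    rw [key, key] at h3
    exact Module.Grassmannian.ext (Submodule.map_injective_of_injective (piE n R).injective h3)
  · intro N
    set N' := N.1.toSubmodule.comap (rhoE e₀ R hA).toLinearEquiv.symm.toLinearMap with hN'
    set P := rowSp i₀ N' with hP
    have hN : matSub P = N' := matSub_rowSp i₀ N' fun a x hx => by
      rw [hN', Submodule.mem_comap] at hx ⊢
      show (rhoE e₀ R hA).symm (a * x) ∈ _
      rw [map_mul]
      exact N.2 _ _ hx
    have e1 := quotComapEquiv (rhoE e₀ R hA).toLinearEquiv.symm N.1.toSubmodule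
    rw [← hN', ← hN] at e1
    haveI : Module.Finite R (Matrix (Fin n) (Fin n) R ⧸ matSub P) := Module.Finite.equiv e1.symm
    haveI : Module.Projective R (Matrix (Fin n) (Fin n) R ⧸ matSub P) := Module.Projective.of_equiv e1.symm
    obtain ⟨hf, hp⟩ := quot_props P i₀
    haveI := hf
    haveI := hp
    obtain ⟨af, ap, ar, aa⟩ := ann_props P
    haveI := af
    haveI := ap
    let U : Module.Grassmannian R (R ⊗[K] (Fin n → K)) 1 :=
      { toSubmodule := (ann P).comap (piE n R).toLinearMap
        finite_quotient := Module.Finite.equiv (quotComapEquiv (piE n R) (ann P)).symm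
        projective_quotient := Module.Projective.of_equiv (quotComapEquiv (piE n R) (ann P)).symm
        rankAtStalk_eq := fun x => by
          rw [Module.rankAtStalk_eq_of_equiv (quotComapEquiv (piE n R) (ann P))]
          have h1 := (mat_props P).2.2 x
          rw [Module.rankAtStalk_eq_of_equiv e1] at h1
          have h0 := N.1.rankAtStalk_eq x
          rw [h0] at h1
          have h2 : Module.rankAtStalk (R := R) ((Fin n → R) ⧸ P) x = n - 1 := by
            have e2 : n * n - n = n * (n - 1) := by rw [Nat.mul_sub, mul_one]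
            exact (Nat.eq_of_mul_eq_mul_left hn (e2.symm.trans h1)).symm
          have h3 := ar x
          omega }
    refine ⟨U, Subtype.ext (Module.Grassmannian.ext ?_)⟩
    rw [toSB_toSubmodule]
    show (matSub (ann (((ann P).comap (piE n R).toLinearMap).map (piE n R).toLinearMap))).comap _ = _
    rw [Submodule.map_comap_eq_of_surjective (piE n R).surjective, aa, hN, hN', ← Submodule.comap_comp]
    ext z
    rw [Submodule.mem_comap, LinearMap.comp_apply]
    erw [(rhoE e₀ R hA).toLinearEquiv.symm_apply_apply]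

theorem rho_inc (S : Type u) [CommRing S] [Algebra k S] [Algebra K S] [IsScalarTower k K S] (φ : R →ₐ[K] S)
    (x : R ⊗[k] A) : rho e₀ S (inc (φ.restrictScalars k) x) = (rho e₀ R x).map φ := by
  induction x using TensorProduct.induction_on with
  | zero => simp
  | tmul r a =>
    rw [inc_tmul, rho_tmul, rho_tmul]
    ext i j
    simp [Matrix.map_apply]
  | add x y hx hy => simp only [map_add, hx, hy, Matrix.map_add _ (map_add φ)]

theorem piE_inc (S : Type u) [CommRing S] [Algebra K S] (φ : R →ₐ[K] S) (y : R ⊗[K] (Fin n → K)) (i : Fin n) :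
    piE n S (inc φ y) i = φ (piE n R y i) := by
  induction y using TensorProduct.induction_on with
  | zero => simp
  | tmul r v => simp [piE, inc_tmul]
  | add x y hx hy => simp only [map_add, Pi.add_apply, hx, hy]

theorem toSB_map [Module.Finite k A] (hA : Module.finrank k A = n * n) (S : Type u) [CommRing S] [Algebra k S]
    [Algebra K S] [IsScalarTower k K S] (φ : R →ₐ[K] S) (U : Module.Grassmannian R (R ⊗[K] (Fin n → K)) 1) :
    (toSB e₀ S hA (Module.Grassmannian.map φ U)).1 =
      Module.Grassmannian.map (φ.restrictScalars k) (toSB e₀ R hA U).1 := by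
  refine (LinkedGrass.eq_of_le ?_).symm
  rw [map_eq_span]
  refine Submodule.span_le.2 ?_
  rintro _ ⟨x, hx, rfl⟩
  rw [SetLike.mem_coe, toSB_toSubmodule] at hx ⊢
  rw [Submodule.mem_comap] at hx ⊢
  intro i u hu
  obtain ⟨y, hy, rfl⟩ := hu
  rw [SetLike.mem_coe, map_eq_span] at hy
  show (piE n S y) ⬝ᵥ (rho e₀ S (inc (φ.restrictScalars k) x)) i = 0
  induction hy using Submodule.span_induction with
  | mem z hz =>
    obtain ⟨z, hz, rfl⟩ := hz
    have h := hx i (piE n R z) ⟨z, hz, rfl⟩
    have h' : φ ((piE n R z) ⬝ᵥ (rho e₀ R x) i) = 0 := by rw [show (piE n R z) ⬝ᵥ (rho e₀ R x) i = 0 from h, map_zero]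
    rw [rho_inc]
    refine Eq.trans ?_ h'
    simp only [dotProduct, map_sum, map_mul, Matrix.map_apply, piE_inc]
  | zero => simp
  | add z w _ _ h1 h2 => rw [map_add, add_dotProduct, h1, h2, add_zero]
  | smul c z _ h1 => rw [map_smul, smul_dotProduct, h1, smul_zero]

end ring

theorem splitting (hn : 0 < n) [Module.Finite k A] (hA : Module.finrank k A = n * n)
    (e₀ : K ⊗[k] A ≃ₐ[K] Matrix (Fin n) (Fin n) K)
    {X : Scheme.{u}} (f : X ⟶ Spec (CommRingCat.of k)) (hX : BrSev.IsSBOf k A (n * n - n) f) :
    Nonempty (BrSev.Splitting f K (n - 1)) := by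
  obtain ⟨b⟩ := hX
  obtain ⟨m, rfl⟩ : ∃ m, n = m + 1 := ⟨n - 1, by omega⟩
  rw [Nat.add_sub_cancel]
  letI algk : ∀ R : CommAlgCat.{u} K, Algebra k R := fun R =>
    ((algebraMap K R).comp (algebraMap k K)).toAlgebra
  haveI htow : ∀ R : CommAlgCat.{u} K, IsScalarTower k K R := fun R => IsScalarTower.of_algebraMap_eq fun _ => rfl
  let X' : Over (Spec (CommRingCat.of K)) := Over.mk (BrSev.bcTo f K)
  have hk : ∀ R : CommAlgCat.{u} K, Spec.map (CommRingCat.ofHom (algebraMap k R)) =
      Spec.map (CommRingCat.ofHom (algebraMap K R)) ≫ Spec.map (CommRingCat.ofHom (algebraMap k K)) := fun R => by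
    rw [← Spec.map_comp]
    rfl
  let pts : ∀ R : CommAlgCat.{u} K, (SpA R ⟶ X') ≃ BrSev.Pts f (R : Type u) := fun R =>
    { toFun := fun g => ⟨g.left ≫ BrSev.proj f K, by
        have h : g.left ≫ BrSev.bcTo f K = Spec.map (CommRingCat.ofHom (algebraMap K R)) := Over.w g
        rw [hk R, ← h, Category.assoc, Category.assoc, pullback.condition]⟩
      invFun := fun h => Over.homMk (pullback.lift h.1 (Spec.map (CommRingCat.ofHom (algebraMap K R)))
        (by rw [h.2, hk R])) (pullback.lift_snd _ _ _)
      left_inv := fun g => Over.OverMorphism.ext (pullback.hom_ext (pullback.lift_fst _ _ _)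
        ((pullback.lift_snd _ _ _).trans (Over.w g).symm))
      right_inv := fun h => Subtype.ext (pullback.lift_fst _ _ _) }
  let e : ∀ R : CommAlgCat.{u} K, (SpA R ⟶ X') ≃
      (Module.Grassmannian.functor (R := K) (M := Fin (m + 1) → K) 1).obj R := fun R =>
    ((pts R).trans (b.bij R)).trans (Equiv.ofBijective _ (toSB_bijective e₀ R hA hn)).symm
  have he : ∀ (R S : CommAlgCat.{u} K) (φ : R ⟶ S) (g : SpA R ⟶ X') (g' : SpA S ⟶ X'),
      g'.left = Spec.map (CommRingCat.ofHom φ.hom.toRingHom) ≫ g.left →
        e S g' = (Module.Grassmannian.functor (R := K) (M := Fin (m + 1) → K) 1).map φ (e R g) := by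
    intro R S φ g g' hg
    apply (Equiv.ofBijective _ (toSB_bijective e₀ S hA hn)).injective
    refine ((Equiv.ofBijective _ (toSB_bijective e₀ S hA hn)).apply_symm_apply _).trans ?_
    refine Subtype.ext (Module.Grassmannian.ext ?_)
    have h1 : pts S g' = BrSev.Pts.map f (φ.hom.restrictScalars k) (pts R g) :=
      Subtype.ext ((congrArg (fun z => z ≫ BrSev.proj f K) hg).trans (Category.assoc _ _ _))
    show (b.bij S (pts S g')).1.toSubmodule = (toSB e₀ S hA (Module.Grassmannian.map φ.hom (e R g))).1.toSubmodule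
    rw [toSB_map, h1, b.natural R S (φ.hom.restrictScalars k) (pts R g)]
    have h2 : toSB e₀ R hA (e R g) = b.bij R (pts R g) :=
      (Equiv.ofBijective _ (toSB_bijective e₀ R hA hn)).apply_symm_apply _
    rw [h2]
  obtain ⟨I, -⟩ := iso_of_representing (fun {A B} φ => (Module.Grassmannian.functor (R := K) (M := Fin (m + 1) → K) 1).map φ)
    e (pointsEquiv K (m + 1) 1) he pointsEquiv_natural
  obtain ⟨j, hj⟩ := exists_grassOne_iso K m
  refine ⟨⟨(Over.forget _).mapIso I ≪≫ j, ?_⟩⟩
  show (I.hom.left ≫ j.hom) ≫ CohB1.ProjSpace.toSpec m K = BrSev.bcTo f K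
  rw [Category.assoc, hj]
  exact Over.w I.hom

theorem exists_galois_splitting {n : ℕ} (hn : 0 < n) [Algebra.IsCentral k A] [IsSimpleRing A]
    (hA : Module.finrank k A = n * n) {X : Scheme.{u}} (f : X ⟶ Spec (CommRingCat.of k))
    (hX : BrSev.IsSBOf k A (n * n - n) f) :
    ∃ (K : Type u) (_ : Field K) (_ : Algebra k K), FiniteDimensional k K ∧ IsGalois k K ∧
      Nonempty (BrSev.Splitting f K (n - 1)) := by
  haveI : Module.Finite k A := Module.finite_of_finrank_pos (by rw [hA]; exact Nat.mul_pos hn hn)
  obtain ⟨K, _, _, hfin, hgal, r, hr, ⟨e₀⟩⟩ := Groth.Agent.S0201.result k A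
  have hrn : r = n := by
    have h := e₀.toLinearEquiv.finrank_eq
    rw [Module.finrank_baseChange, hA, Module.finrank_matrix, Module.finrank_self, Fintype.card_fin, mul_one] at h
    exact (Nat.mul_self_inj.1 h).symm
  subst hrn
  exact ⟨K, _, _, hfin, hgal, splitting hn hA e₀ f hX⟩

end Groth.Agent.BrSevSplit
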